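import Cfsg.Agent.Lib.FL.Ari

/-! A monomial model of the Sylow 2-subgroups of the general linear and unitary groups in every dimension. -/

set_option autoImplicit false

namespace Cfsg.Lib.LN

open Subgroup Equiv Cfsg.Lib.FL

/-- The exponent of two in the order of the general linear or unitary group. -/
def ex' (n b k : ℕ) : ℕ := (n + 1) / 2 * (if b = 0 then k else 1) + n / 2 * (k + 1) + padicValNat 2 (n / 2).factorial

/-- The model. -/
structure Gm (n b k : ℕ) (ω : Perm (Fin n)) (M : Subgroup (W (Fin n) (Mu (k + 1)))) : Prop where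
  sq : ω * ω = 1
  le : M ≤ M0 (Mu (k + 1)) ((-1) ^ b + 2 ^ k) ω b
  pg : IsPGroup 2 M
  card : 2 ^ ex' n b k ≤ Nat.card M

variable {τ : ℤ} {n b k : ℕ} {ω : Perm (Fin n)} {M : Subgroup (W (Fin n) (Mu (k + 1)))}

theorem odd_geom (h : Odd τ) {i : ℕ} (hi : Odd i) : ∃ o, Odd o ∧ τ ^ i - 1 = (τ - 1) * o := by
  obtain ⟨m, rfl⟩ := hi
  induction m with
  | zero => exact ⟨1, odd_one, by simp⟩
  | succ m ih =>
    obtain ⟨o, ho, e⟩ := ih
    refine ⟨τ ^ 2 * o + (τ + 1), (h.pow.mul ho).add_even h.add_one, ?_⟩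
    linear_combination τ ^ 2 * e

theorem lte_two (h : 4 ∣ τ - 1) {j : ℕ} (hj : j ≠ 0) : ∃ o, Odd o ∧ τ ^ j - 1 = 2 ^ padicValNat 2 j * (τ - 1) * o := by
  obtain ⟨a, m, hm, rfl⟩ := Nat.exists_eq_two_pow_mul_odd hj
  have v : padicValNat 2 (2 ^ a * m) = a := by
    rw [padicValNat.mul (by positivity) hm.pos.ne', padicValNat.prime_pow, padicValNat.eq_zero_of_not_dvd hm.not_two_dvd_nat,
      add_zero]
  rw [v]
  clear v hj
  induction a with
  | zero =>
    obtain ⟨c, hc⟩ := h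
    simpa using odd_geom (τ := τ) ⟨2 * c, by omega⟩ hm
  | succ a ih =>
    obtain ⟨o, ho, e⟩ := ih
    obtain ⟨c, hc⟩ := h
    refine ⟨o * (2 * (2 ^ a * c * o) + 1), ho.mul (odd_two_mul_add_one _), ?_⟩
    rw [show τ ^ (2 ^ (a + 1) * m) = (τ ^ (2 ^ a * m)) ^ 2 by ring, show τ ^ (2 ^ a * m) = _ + 1 from eq_add_of_sub_eq e, hc]
    ring

theorem ty_prod (h : Ty τ b k) (hb : b < 2) (n : ℕ) :
    ∃ o, Odd o ∧ ∏ i ∈ Finset.range n, (τ ^ (i + 1) - 1) = 2 ^ ex' n b k * o := by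
  obtain ⟨a, ha, e⟩ := h.sub hb
  obtain ⟨c, hc, f⟩ := h.sq hb
  induction n with
  | zero => exact ⟨1, odd_one, by simp [ex']⟩
  | succ n ih =>
    obtain ⟨o, ho, r⟩ := ih
    rw [Finset.prod_range_succ, r]
    unfold ex'
    generalize (if b = 0 then k else 1) = s at *
    obtain ⟨m, rfl | rfl⟩ := Nat.even_or_odd' n
    · obtain ⟨u, hu, w⟩ := odd_geom h.odd (odd_two_mul_add_one m)
      refine ⟨o * (a * u), ho.mul (ha.mul hu), ?_⟩
      rw [w, e, show (2 * m + 1 + 1) / 2 = m + 1 by omega, show (2 * m + 1) / 2 = m by omega, show 2 * m / 2 = m by omega]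
      ring
    · obtain ⟨u, hu, w⟩ := lte_two (τ := τ ^ 2) (f ▸ ((pow_dvd_pow 2 (by have := h.1; omega : 2 ≤ k + 1)).mul_right c))
        m.succ_ne_zero
      refine ⟨o * (c * u), ho.mul (hc.mul hu), ?_⟩
      rw [show 2 * m + 1 + 1 = 2 * (m + 1) by ring, pow_mul, w, f, show (2 * (m + 1) + 1) / 2 = m + 1 by omega,
        show (2 * m + 1) / 2 = m by omega, show 2 * (m + 1) / 2 = m + 1 by omega, Nat.factorial_succ,
        padicValNat.mul m.succ_ne_zero m.factorial_ne_zero]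
      ring

theorem exists_om (n : ℕ) : ∃ (ω : Perm (Fin n)) (P : Subgroup (Perm (Fin n))), ω * ω = 1 ∧ ω.support.card = 2 * (n / 2) ∧
    P ≤ centralizer {ω} ∧ IsPGroup 2 P ∧ Nat.card P = 2 ^ (n / 2 + padicValNat 2 (n / 2).factorial) := by
  obtain ⟨ω, e⟩ := (Perm.exists_with_cycleType_iff (Fin n) (m := .replicate (n / 2) 2)).2
    ⟨by simp; omega, fun a h => (Multiset.eq_of_mem_replicate h).ge⟩
  obtain ⟨S⟩ : Nonempty (Sylow 2 (centralizer {ω})) := inferInstance
  refine ⟨ω, (S : Subgroup (centralizer {ω})).map (Subgroup.subtype _), ?_, ?_, map_subtype_le _, S.2.map _, ?_⟩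
  · exact (sq ω).symm.trans (Perm.pow_prime_eq_one_iff.2 fun c h => Multiset.eq_of_mem_replicate (e ▸ h))
  · simp [← Perm.sum_cycleType, e, mul_comm]
  rw [card_subtype, S.card_eq_multiplicity, Perm.nat_card_centralizer, e, Nat.factorization_def _ Nat.prime_two]
  have a : (Fintype.card (Fin n) - (Multiset.replicate (n / 2) 2).sum).factorial = 1 := Nat.factorial_eq_one.2 (by simp; omega)
  have c : ∏ x ∈ (Multiset.replicate (n / 2) 2).toFinset, ((Multiset.replicate (n / 2) 2).count x).factorial =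
      (n / 2).factorial := by
    rw [Multiset.toFinset_replicate]
    split_ifs with z <;> simp [z]
  rw [a, c, one_mul, Multiset.prod_replicate, padicValNat.mul (by positivity) (Nat.factorial_ne_zero _), padicValNat.prime_pow]

/-- the permutation part -/
def tau (ι A : Type*) [CommGroup A] : W ι A →* Perm ι := .mk' W.τ W.mul_τ

theorem tau_pg {P : Subgroup (Perm (Fin n))} (hP : IsPGroup 2 P) : IsPGroup 2 (P.comap (tau (Fin n) (Mu (k + 1)))) := fun x => by
  obtain ⟨a, ha⟩ := hP ⟨x.1.τ, x.2⟩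
  have e : (x.1 ^ 2 ^ a).τ = 1 := (W.pow_τ _ _).trans (congrArg Subtype.val ha)
  have : (x.1 ^ 2 ^ a) ^ 2 ^ (k + 1) = 1 :=
    W.ext (funext fun j => (W.pow_d e _ _).trans (Mu.pow _)) (by rw [W.pow_τ, e, one_pow]; rfl)
  exact ⟨a + (k + 1), Subtype.ext (by rwa [← pow_mul, ← pow_add] at this)⟩

theorem exists_gm (n : ℕ) (hb : b < 2) (hk : 1 ≤ k) : ∃ ω M, Gm n b k ω M := by
  obtain ⟨ω, P, w2, ws, le, pg, c⟩ := exists_om n
  have w : ∀ j, ω (ω j) = j := fun j => congrArg (· j) w2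
  refine ⟨ω, M0 _ _ ω b ⊓ P.comap (tau _ _), w2, inf_le_left, (tau_pg pg).to_inf_right, ?_⟩
  have key : ∀ {X : Type} {σ : ℤ} (f : X → Fin n → Mu (k + 1)), Function.Injective f → (∀ x j, f x ((ω ^ b) j) = f x j ^ σ) →
      Nat.card X * Nat.card P ≤ Nat.card (M0 _ σ ω b ⊓ P.comap (tau _ (Mu (k + 1))) :) := fun f hf h => by
    rw [← Nat.card_prod]
    exact Nat.card_le_card_of_injective (fun x => ⟨⟨f x.1, x.2⟩, ⟨(mem_centralizer_singleton_iff.1 (le x.2.2)), h x.1⟩, x.2.2⟩)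
      fun x y e => Prod.ext (hf (congrArg (·.1.d) e)) (Subtype.ext (congrArg (·.1.τ) e))
  interval_cases b
  · refine le_trans (le_of_eq ?_) (key (X := Fin n → (powMonoidHom (2 ^ k) : Mu (k + 1) →* _).ker) (fun x j => x j)
      (fun x y e => funext fun j => Subtype.ext (congrFun e j)) fun x j => (zpow_fix (x j).2 (t := 1) (by simp)).symm)
    rw [c, Nat.card_fun, Mu.card_ker k.le_succ, Nat.card_eq_fintype_card, Fintype.card_fin, ← pow_mul, ← pow_add, ex']
    obtain ⟨m, rfl | rfl⟩ := Nat.even_or_odd' n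
    · rw [show (2 * m + 1) / 2 = m by omega, show 2 * m / 2 = m by omega]; simp; ring
    · rw [show (2 * m + 1 + 1) / 2 = m + 1 by omega, show (2 * m + 1) / 2 = m by omega]; simp; ring
  have s := Mu.ss hk
  have f : ∀ x : (powMonoidHom (2 ^ 1) : Mu (k + 1) →* _).ker, x.1 = x.1 ^ ((-1) ^ 1 + 2 ^ k : ℤ) := fun x => by
    obtain ⟨k, rfl⟩ := Nat.exists_eq_add_of_le' hk
    exact (zpow_fix x.2 (t := 2 ^ k - 1) (by push_cast; ring)).symm
  have a := Mu.card_ker (a := 1) (c := k + 1) (by omega)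
  generalize (powMonoidHom (2 ^ 1) : Mu (k + 1) →* _).ker = E at f a
  generalize ((-1) ^ 1 + 2 ^ k : ℤ) = σ at s f
  have c1 : (Finset.univ.filter fun j => j < ω j).card = n / 2 := by
    have e : (Finset.univ.filter fun j => j < ω j).card = (Finset.univ.filter fun j => ω j < j).card :=
      Finset.card_equiv ω fun j => by simp [w]
    have : ω.support = (Finset.univ.filter fun j => j < ω j) ∪ Finset.univ.filter fun j => ω j < j := by
      ext j; simp [eq_comm]
    rw [this, Finset.card_union_of_disjoint (Finset.disjoint_filter.2 fun _ _ => lt_asymm)] at ws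
    omega
  have c2 : Fintype.card {j // ω j = j} = n % 2 := by
    have := ω.support.card_add_card_compl
    rw [Fintype.card_subtype, show (Finset.univ.filter fun j => ω j = j) = ω.supportᶜ by ext; simp]
    simp only [Fintype.card_fin] at this
    omega
  refine le_trans (le_of_eq ?_) (key (X := ({j // j < ω j} → Mu (k + 1)) × ({j // ω j = j} → E))
    (fun x j => if p : j < ω j then x.1 ⟨j, p⟩ else if q : ω j = j then x.2 ⟨j, q⟩ else
      x.1 ⟨ω j, by rw [w]; exact lt_of_le_of_ne (not_lt.1 p) q⟩ ^ σ) (fun x y e => Prod.ext (funext fun j => ?_)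
        (funext fun j => Subtype.ext ?_)) fun x j => ?_)
  · rw [c, Nat.card_prod, Nat.card_fun, Nat.card_fun, a, Mu.card, Nat.card_eq_fintype_card, Nat.card_eq_fintype_card, c2,
      Fintype.card_subtype, c1, ← pow_mul, ← pow_mul, ← pow_add, ← pow_add, ex', show (n + 1) / 2 = n % 2 + n / 2 by omega]
    simp; ring
  · simpa [j.2] using congrFun e j
  · simpa [j.2] using congrFun e j
  · rcases lt_trichotomy j (ω j) with p | p | p
    · simp [w, p, p.not_gt, p.ne]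
    · simp [← p, ← f]
    · simp [w, p, p.not_gt, p.ne, s]

theorem Gm.inv (h : Gm n b k ω M) (hn : 1 ≤ n) : ∃ (S : Finset (Fin n)) (l : ℕ), S.card = 2 ^ l ∧
    (∀ j, (ω ^ b) j ∈ S ↔ j ∈ S) ∧ ∀ m ∈ M, ∀ j, m.τ j ∈ S ↔ j ∈ S := by
  classical
  have p : IsPGroup 2 ↥(zpowers ω ⊔ M.map (tau _ _)) := by
    refine IsPGroup.to_sup_of_normal_left' (.of_card_dvd_pow (n := 1) ?_) (h.pg.map _) ?_
    · rw [Nat.card_zpowers]; exact orderOf_dvd_of_pow_eq_one ((pow_two ω).trans h.sq)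
    · rintro _ ⟨m, hm, rfl⟩
      exact centralizer_le_normalizer _ (mem_centralizer_iff.2 fun _ ⟨i, e⟩ => e ▸ ((h.le hm).1.zpow_right i).eq.symm)
  obtain ⟨l, hl⟩ := p.card_orbit (⟨0, hn⟩ : Fin n)
  have o : ∀ g ∈ zpowers ω ⊔ M.map (tau _ _), ∀ j, g j ∈ (MulAction.orbit ↥(zpowers ω ⊔ M.map (tau _ _)) (⟨0, hn⟩ : Fin n)).toFinset ↔
      j ∈ (MulAction.orbit ↥(zpowers ω ⊔ M.map (tau _ _)) (⟨0, hn⟩ : Fin n)).toFinset := fun g hg j => by
    simp only [Set.mem_toFinset, ← MulAction.orbit_eq_iff]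
    rw [show g j = (⟨g, hg⟩ : ↥(zpowers ω ⊔ M.map (tau _ _))) • j from rfl, MulAction.orbit_smul]
  exact ⟨_, l, by rw [← hl, Set.toFinset_card, Nat.card_eq_fintype_card], o _ (mem_sup_left (npow_mem_zpowers ω b)),
    fun m hm => o _ (mem_sup_right ⟨m, hm, rfl⟩)⟩

end Cfsg.Lib.LN
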