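import Cfsg.Agent.Lib.FL.LU
import Cfsg.Agent.Lib.LN.F1

/-! Special linear and unitary groups with the same two-adic type have isomorphic 2-fusion systems (all dimensions). -/

set_option autoImplicit false

namespace Cfsg.Lib.LN

open Subgroup Equiv Cfsg.Lib.FL
open Matrix.GeneralLinearGroup (det)
open scoped MatrixGroups

variable {n b k : ℕ} {K K' : Type} [Field K] [Field K'] [Finite K] [Finite K'] {H H' G : Type*} [Group H] [Group H'] [Group G]
  {τ τ' : ℤ} {ω : Perm (Fin n)} {M : Subgroup (W (Fin n) (Mu (k + 1)))}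

/-- The elements of determinant one of the model. -/
noncomputable abbrev Mt' (M : Subgroup (W (Fin n) (Mu (k + 1)))) : Subgroup (W (Fin n) (Mu (k + 1))) :=
  M ⊓ (Matrix.detMonoidHom.comp (mn (chi (k + 1)))).ker

theorem det_rr' (g : Gm n b k ω M) (π : Rg (k + 1) →+* K) (h2 : (2 : K) ≠ 0) {x : W (Fin n) (Mu (k + 1))}
    (hx : x ∈ M) : det (rr n π x) = 1 ↔ x ∈ Mt' M := by
  have e : (det (rr n π x)).1 = π (mn (chi (k + 1)) x).det := by
    rw [RingHom.map_det, rr, ← mp_mn]; rfl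
  rw [Units.ext_iff, e]
  refine ⟨fun u => ⟨hx, ?_⟩, fun u => (congrArg π u.2).trans π.map_one⟩
  obtain ⟨a, ha⟩ := g.pg ⟨x, hx⟩
  exact eq_one_of_map π h2 (a := a) (by
    rw [← map_pow, show x ^ 2 ^ a = 1 from congrArg Subtype.val ha, map_one]) u

variable (X : Tw n K H τ)

/-- The embedding of the model. -/
structure Eb (π : Rg (k + 1) →+* K) (b : ℕ) (ω : Perm (Fin n)) (M : Subgroup (W (Fin n) (Mu (k + 1)))) (j : Mt' M →* H) (u : GL (Fin n) K) : Prop where
  e : ∀ x, X.i (j x) = u * rr n π x * u⁻¹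
  fix : ∀ {A : Type} [CommGroup A] (χ : A →* K) (m : W (Fin n) A), m ∈ M0 A τ ω b →
    X.θ (u * (mn χ).toHomUnits m * u⁻¹) = u * (mn χ).toHomUnits m * u⁻¹

theorem fix_md (g : Gm n b k ω M) (h : Ty τ b k) {x : W (Fin n) (Mu (k + 1))} (hx : x ∈ M) : x ∈ M0 _ τ ω b :=
  ⟨(g.le hx).1, fun j => ((g.le hx).2 j).trans (h.zpow _).symm⟩

theorem exists_eb (g : Gm n b k ω M) (h : Ty τ b k) (π : Rg (k + 1) →+* K) : ∃ j u, Eb X π b ω M j u := by
  have w2 : ω ^ b * ω ^ b = 1 := by rw [← (Commute.refl _).mul_pow, g.sq, one_pow]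
  obtain ⟨u, hu⟩ := X.lang ((mn (Units.coeHom K)).toHomUnits ⟨1, ω ^ b⟩) (by rw [X.mon]; congr; funext; simp) (by
    rw [← map_mul]; exact (congrArg _ (W.ext (funext fun _ => mul_one _) w2)).trans (map_one _))
  have f : ∀ {A : Type} [CommGroup A] (χ : A →* K) (m : W (Fin n) A), m ∈ M0 A τ ω b →
      X.θ (u * (mn χ).toHomUnits m * u⁻¹) = u * (mn χ).toHomUnits m * u⁻¹ := fun χ m hm => by
    have e : (mn (Units.coeHom K)).toHomUnits (⟨1, ω ^ b⟩ : W _ _) = (mn χ).toHomUnits (⟨1, ω ^ b⟩ : W _ _) := by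
      ext; simp [mn_apply]
    rw [map_mul, map_mul, map_inv, hu, X.mon, e, mul_assoc u, ← map_mul, mul_inv_rev, ← mul_assoc, mul_assoc u, ← map_inv, ← map_mul]
    congr 3
    refine W.ext (funext fun j => ?_) (mul_inv_eq_iff_eq_mul.2 (hm.1.pow_right b).eq.symm)
    simp [← hm.2]
  have m : ∀ x : Mt' M, ((MulAut.conj u).toMonoidHom.comp ((rr n π).comp (Subgroup.subtype _))) x ∈ X.i.range := fun x =>
    (X.mem _).2 ⟨f _ _ (fix_md g h x.2.1), by simpa using (det_rr' g π (two_ne X.cK h.odd) x.2.1).2 x.2⟩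
  exact ⟨(MonoidHom.ofInjective X.inj).symm.toMonoidHom.comp (MonoidHom.codRestrict _ _ m), u,
    fun x => MonoidHom.apply_ofInjective_symm X.inj _, f⟩

variable {X} {π : Rg (k + 1) →+* K} {j : Mt' M →* H} {u : GL (Fin n) K}

theorem Eb.eq (E : Eb X π b ω M j u) : X.i.comp j = (MulAut.conj u).toMonoidHom.comp ((rr n π).comp (Subgroup.subtype _)) :=
  MonoidHom.ext E.e

theorem Eb.le (E : Eb X π b ω M j u) : Le j ((rr n π).comp (Subgroup.subtype _)) := (E.eq ▸ Le.map j X.i).trans (.map' _ _)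

theorem Eb.sy (E : Eb X π b ω M j u) (g : Gm n b k ω M) (h : Ty τ b k) (hb : b < 2) : Sy j := by
  have h2 := two_ne X.cK h.odd
  let i := X.i.codRestrict (X.θ.eqLocus (.id _)) fun x => ((X.mem _).1 ⟨x, rfl⟩).1
  have e : i.range = (det.comp (Subgroup.subtype _)).ker := Subgroup.ext fun g =>
    ⟨fun ⟨x, e⟩ => e ▸ ((X.mem _).1 ⟨x, rfl⟩).2, fun e => let ⟨x, e⟩ := (X.mem _).2 ⟨g.2, e⟩; ⟨x, Subtype.ext e⟩⟩
  have : i.range.Normal := e ▸ inferInstance
  let r := ((MulAut.conj u).toMonoidHom.comp ((rr n π).comp M.subtype)).codRestrict (X.θ.eqLocus (.id _))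
    fun x => E.fix _ _ (fix_md g h x.2)
  obtain ⟨o, ho, c⟩ := X.card
  obtain ⟨o', ho', c'⟩ := ty_prod h hb n
  refine Sy.normal (r := r) (.of_le (g.pg) (fun x y e => Subtype.ext (mn_inj (chi_inj π h2)
    (congrArg Units.val ((MulAut.conj u).injective (congrArg Subtype.val e))))) ?_) (i := i)
    (fun x y e => X.inj (congrArg Subtype.val e)) (f := inclusion inf_le_left) (MonoidHom.ext fun x => Subtype.ext (E.e x))
    fun x hx => ⟨⟨x, (det_rr' g π h2 x.2).1 (by simpa [e, r] using hx)⟩, rfl⟩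
  rw [← Int.natAbs_natCast (Nat.card _), val_int (c.trans (by rw [c', mul_left_comm])) (ho.mul ho')]
  exact g.card

theorem Eb.ge [Finite G] (E : Eb X π b ω M j u) (g : Gm n b k ω M) (hn : 1 ≤ n) {ι : Mt' M →* G} (a : Sy ι)
    (l : Le ι ((rr n π).comp (Subgroup.subtype _))) : Le ι j := by
  let i := X.i.codRestrict (X.θ.eqLocus (.id _)) fun x => ((X.mem _).1 ⟨x, rfl⟩).1
  refine Le.of_over a (i := i) ((l.trans (show Le _ (X.i.comp j) from E.eq ▸ .map _ _)).trans (X.cj (g.pg.to_inf_left) (i.comp j)))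
    (fun x y e => X.inj (congrArg Subtype.val e)) (det.comp (Subgroup.subtype _))
    (fun g e => let ⟨x, e⟩ := (X.mem _).2 ⟨g.2, e⟩; ⟨x, Subtype.ext e⟩) fun y hy => ?_
  obtain ⟨S, l, hS, hw, hs⟩ := g.inv hn
  obtain ⟨t, ht⟩ := exists_pow_eq_self_of_coprime (x := det y.1) (n := 2 ^ l)
    ((hy.of_dvd_nat (orderOf_map_dvd (det.comp (Subgroup.subtype _)) y)).coprime_two_left.pow_left l)
  have f : det y.1 ^ t = (det y.1 ^ t) ^ τ := by
    rw [← zpow_natCast, ← zpow_mul, mul_comm, zpow_mul, ← X.dt, show X.θ y.1 = y.1 from y.2]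
  let c : W (Fin n) Kˣ := ⟨fun j => if j ∈ S then det y.1 ^ t else 1, 1⟩
  refine ⟨⟨_, E.fix (Units.coeHom K) c ⟨.one_left _, fun j => ?_⟩⟩, ?_, fun x => Subtype.ext ?_⟩
  · simp only [c, hw]
    split_ifs
    exacts [f, (one_zpow _).symm]
  · refine (show _ = det ((mn (Units.coeHom K)).toHomUnits c) by simp).trans (Units.ext ((det_mn _ _).trans ?_))
    rw [← pow_mul, mul_comm, pow_mul] at ht
    simp [c, hS, ← Units.val_pow_eq_pow_val, ht]
  · have : (mn (Units.coeHom K)).toHomUnits c * rr n π x = rr n π x * (mn (Units.coeHom K)).toHomUnits c :=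
      Units.ext (mn_comm _ _ rfl fun j => by simp only [c, hs _ x.2.1])
    change _ * X.i (j x) = X.i (j x) * _
    rw [E.e, conj_mul, conj_mul, this]

theorem Eb.cen (E : Eb X π b ω M j u) (h2 : (2 : K) ≠ 0) {x : Mt' M} :
    j x ∈ center H ↔ x.1.τ = 1 ∧ ∀ s t, x.1.d s = x.1.d t := by
  refine ⟨fun h => ?_, fun h => mem_center_iff.2 fun g => X.inj (Units.ext ?_)⟩
  · obtain ⟨a, e⟩ := X.cen _ h
    obtain ⟨p, q⟩ := mn_eq_smul (a := a) (show (rr n π x).1 = _ by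
      rw [show rr n π x = u⁻¹ * X.i (j x) * u by rw [E.e]; group]
      simp [e])
    exact ⟨p, fun s t => chi_inj π h2 ((q s).trans (q t).symm)⟩
  · rcases isEmpty_or_nonempty (Fin n) with _ | ⟨⟨s⟩⟩
    · exact Subsingleton.elim _ _
    have : (X.i (j x)).1 = π (chi _ (x.1.d s)) • 1 := by
      rw [E.e, Units.val_mul, Units.val_mul, show (rr n π x).1 = _ from mn_of_const h.1 fun t => congrArg _ (h.2 t s)]
      simp
    simp [this]

theorem tw_eqv (X : Tw n K H τ) (X' : Tw n K' H' τ') (hn : 1 ≤ n) (hb : b < 2) (h : Ty τ b k) (h' : Ty τ' b k) :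
    Eqv (H ⧸ center H) (H' ⧸ center H') := by
  obtain ⟨ω, M, g⟩ := exists_gm n hb (one_le_two.trans h.1)
  have := Finite.of_injective _ X.inj
  have := Finite.of_injective _ X'.inj
  have h2 := two_ne X.cK h.odd
  have h2' := two_ne X'.cK h'.odd
  obtain ⟨π⟩ := exists_hom X.cK h hb
  obtain ⟨π'⟩ := exists_hom X'.cK h' hb
  obtain ⟨j, u, E⟩ := exists_eb X g h π
  obtain ⟨j', u', E'⟩ := exists_eb X' g h' π'
  have s := E.sy g h hb
  have s' := E'.sy g h' hb
  have c : ∀ {K K' : Type} [Field K] [Field K'] [Finite K] [Finite K'] (π : Rg (k + 1) →+* K) (π' : Rg (k + 1) →+* K'),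
      (2 : K) ≠ 0 → (2 : K') ≠ 0 → Le ((rr n π).comp (Mt' M).subtype) ((rr n π').comp (Mt' M).subtype) :=
    fun π π' a a' => by
      rw [rr, rr, ← mp_mn, ← mp_mn]
      exact Le.change (g.pg.to_inf_left) ((mn (chi (k + 1))).comp (Mt' M).subtype) π π' a a'
  have q := QuotientGroup.mk'_surjective (center H)
  have q' := QuotientGroup.mk'_surjective (center H')
  exact eqv_of_model (s.map q) (s'.map q')
    (.quot s (E'.ge g hn s (E.le.trans (c _ _ h2 h2'))) q (QuotientGroup.ker_mk' _).le fun x e =>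
      (QuotientGroup.eq_one_iff _).2 ((E'.cen h2').2 ((E.cen h2).1 ((QuotientGroup.eq_one_iff _).1 e))))
    (.quot s' (E.ge g hn s' (E'.le.trans (c _ _ h2' h2))) q' (QuotientGroup.ker_mk' _).le fun x e =>
      (QuotientGroup.eq_one_iff _).2 ((E.cen h2).2 ((E'.cen h2').1 ((QuotientGroup.eq_one_iff _).1 e))))

variable {q : ℕ} {F F' : Type*} [Field F] [Fintype F] [Field F'] [Fintype F']

theorem eqv_ll' (hn : 2 ≤ n) (hb : b < 2) (h : Ty (Fintype.card F) b k) (h' : Ty (Fintype.card F') b k) :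
    Eqv PSL(n, F) PSL(n, F') :=
  let ⟨_, _, _, e⟩ := exists_sq_field (F := F)
  let ⟨_, _, _, e'⟩ := exists_sq_field (F := F')
  tw_eqv (tw_sl rfl e ((Int.odd_coe_nat _).1 h.odd) hn).some (tw_sl rfl e' ((Int.odd_coe_nat _).1 h'.odd) hn).some
    (by omega) hb h h'

theorem eqv_ul' {L : Type} [Field L] [Fintype L] (hn : 2 ≤ n) (hb : b < 2) (hL : Fintype.card L = q ^ 2) (h : Ty (-q) b k)
    (h' : Ty (Fintype.card F) b k) : Eqv (PSU n L q) PSL(n, F) :=
  let ⟨_, _, _, e'⟩ := exists_sq_field (F := F)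
  tw_eqv (tw_su hL ((Int.odd_coe_nat _).1 (odd_neg.1 h.odd)) hn).some
    (tw_sl rfl e' ((Int.odd_coe_nat _).1 h'.odd) hn).some (by omega) hb h h'

end Cfsg.Lib.LN
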